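import Cfsg.Agent.Lib.Zsigmondy
set_option linter.all false

set_option autoImplicit false

namespace Cfsg.Agent.LieRecognition.FT61.Zsig

/-- Bang's theorem: `2 ^ n - 1` has a primitive prime divisor for `n ≥ 2`, `n ≠ 6`. -/
theorem exists_primitive_prime {n : ℕ} (hn : 2 ≤ n) (h6 : n ≠ 6) :
    ∃ p : ℕ, p.Prime ∧ p ∣ 2 ^ n - 1 ∧ ∀ d, 0 < d → d < n → ¬ p ∣ 2 ^ d - 1 := by
  have h2 : n = 2 → ¬ ∃ k, 2 + 1 = 2 ^ k := by
    rintro - ⟨k, hk⟩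
    rcases k with _ | k
    · simp at hk
    · rw [pow_succ] at hk
      omega
  obtain ⟨r, hr, hr1, -, -⟩ :=
    Cfsg.Agent.Lib.Zsigmondy.exists_primitive (a := 2) (n := n) le_rfl hn h2 (fun h => h6 h.2)
  refine ⟨r, hr, (hr1 n).2 dvd_rfl, fun d hd hdn hdv => ?_⟩
  exact absurd (Nat.le_of_dvd hd ((hr1 d).1 hdv)) (by omega)

end Cfsg.Agent.LieRecognition.FT61.Zsig
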