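import Mathlib
set_option linter.all false

/-!
# Reduction mod `p` of a characteristic zero representation (FT61-R)
-/

namespace Cfsg.Agent.LieRecognition.FT61.Red

open Matrix IsLocalRing

universe u v

/-- A matrix of order prime to `p` over a local ring whose residue characteristic is `p`,
which reduces to `1`, is `1`. -/
theorem eq_one_of_map_residue_eq_one {R : Type u} [CommRing R] [IsLocalRing R]
    (p : ℕ) [CharP (ResidueField R) p] {m : ℕ}
    (M : Matrix (Fin m) (Fin m) R) (r : ℕ) (hr : ¬ p ∣ r) (hM : M ^ r = 1)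
    (h1 : (residue R).mapMatrix M = 1) : M = 1 := by
  have hgeom : (∑ i ∈ Finset.range r, M ^ i) * (M - 1) = 0 := by
    rw [geom_sum_mul, hM, sub_self]
  have hmap : (residue R).mapMatrix (∑ i ∈ Finset.range r, M ^ i) =
      (r : Matrix (Fin m) (Fin m) (ResidueField R)) := by
    rw [map_sum]
    simp only [map_pow, h1, one_pow, Finset.sum_const, Finset.card_range, nsmul_eq_mul, mul_one]
  have hr0 : (r : ResidueField R) ≠ 0 := by
    intro h
    exact hr ((CharP.cast_eq_zero_iff (ResidueField R) p r).1 h)
  have hdet : IsUnit (∑ i ∈ Finset.range r, M ^ i).det := by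
    rw [← residue_ne_zero_iff_isUnit, RingHom.map_det, hmap]
    have : ((r : ℕ) : Matrix (Fin m) (Fin m) (ResidueField R)) =
        Matrix.diagonal (fun _ => (r : ResidueField R)) := by
      rw [← Matrix.diagonal_natCast]
    rw [this, Matrix.det_diagonal]
    exact Finset.prod_ne_zero_iff.2 fun _ _ => hr0
  have hunit := (Matrix.isUnit_iff_isUnit_det _).2 hdet
  have := (hunit.mul_right_eq_zero).1 hgeom
  exact sub_eq_zero.1 this

theorem exists_valuationSubring (K : Type u) [Field K] [CharZero K] (p : ℕ) [Fact p.Prime] :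
    ∃ B : ValuationSubring K, (p : K) ∈ B.nonunits := by
  let A : Subring K := (Int.castRingHom K).range
  let x : A := ⟨(p : K), ⟨(p : ℤ), by simp⟩⟩
  have hI : Ideal.span {x} ≠ ⊤ := by
    intro h
    rw [Ideal.span_singleton_eq_top] at h
    obtain ⟨y, hy⟩ := h.exists_right_inv
    obtain ⟨n, hn⟩ := y.2
    have h1 : (p : K) * (n : K) = 1 := by
      have := congrArg Subtype.val hy
      simpa [x, ← hn] using this
    have h2 : (p : ℤ) * n = 1 := by exact_mod_cast h1
    have h3 : (p : ℤ) ∣ 1 := ⟨n, h2.symm⟩
    have h4 : p ∣ 1 := by exact_mod_cast h3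
    exact (Fact.out : p.Prime).one_lt.ne' (Nat.dvd_one.1 h4)
  obtain ⟨B, -, hB⟩ := Ideal.image_subset_nonunits_valuationSubring _ hI
  exact ⟨B, hB ⟨x, Ideal.subset_span rfl, rfl⟩⟩

section Lattice

variable {D : Type v} [Group D] {K : Type u} [Field K] {m : ℕ} (σ : D →* GL (Fin m) K)
  (B : ValuationSubring K)

/-- The lattice spanned by the images of the standard basis. -/
def lattice : Submodule B (Fin m → K) :=
  Submodule.span B (Set.range fun x : D × Fin m =>
    ((σ x.1 : GL (Fin m) K) : Matrix (Fin m) (Fin m) K).mulVec (Pi.single x.2 1))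

theorem mulVec_mem_lattice (g : D) {v : Fin m → K} (hv : v ∈ lattice σ B) :
    ((σ g : GL (Fin m) K) : Matrix (Fin m) (Fin m) K).mulVec v ∈ lattice σ B := by
  induction hv using Submodule.span_induction with
  | mem x hx =>
    obtain ⟨⟨h, i⟩, rfl⟩ := hx
    refine Submodule.subset_span ⟨⟨g * h, i⟩, ?_⟩
    change ((σ (g * h) : GL (Fin m) K) : Matrix (Fin m) (Fin m) K).mulVec (Pi.single i 1) = _
    rw [map_mul, Units.val_mul, Matrix.mulVec_mulVec]
  | zero => simp
  | add x y _ _ hx hy => rw [Matrix.mulVec_add]; exact add_mem hx hy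
  | smul a x _ hx => rw [Matrix.mulVec_smul]; exact Submodule.smul_mem _ _ hx

/-- The integral representation on the lattice. -/
def latticeRep : D →* Module.End B (lattice σ B) where
  toFun g := ((Matrix.mulVecLin ((σ g : GL (Fin m) K) :
      Matrix (Fin m) (Fin m) K)).restrictScalars B).restrict
        (fun _ hv => mulVec_mem_lattice σ B g hv)
  map_one' := by
    ext v
    simp
  map_mul' g h := by
    refine LinearMap.ext fun v => Subtype.ext ?_
    change ((σ (g * h) : GL (Fin m) K) : Matrix (Fin m) (Fin m) K).mulVec (v : Fin m → K) =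
      ((σ g : GL (Fin m) K) : Matrix (Fin m) (Fin m) K).mulVec
        (((σ h : GL (Fin m) K) : Matrix (Fin m) (Fin m) K).mulVec (v : Fin m → K))
    rw [map_mul, Units.val_mul, Matrix.mulVec_mulVec]

theorem latticeRep_apply (g : D) (v : lattice σ B) :
    ((latticeRep σ B g v : lattice σ B) : Fin m → K) =
      ((σ g : GL (Fin m) K) : Matrix (Fin m) (Fin m) K).mulVec (v : Fin m → K) := rfl

theorem single_mem_lattice (i : Fin m) : (Pi.single i (1 : K) : Fin m → K) ∈ lattice σ B :=
  Submodule.subset_span ⟨⟨1, i⟩, by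
    change ((σ 1 : GL (Fin m) K) : Matrix (Fin m) (Fin m) K).mulVec (Pi.single i 1) = _
    rw [map_one, Units.val_one, Matrix.one_mulVec]⟩

theorem eq_one_of_latticeRep_eq_one (g : D) (h : latticeRep σ B g = 1) : σ g = 1 := by
  apply Units.ext
  apply Matrix.ext_of_mulVec_single
  intro i
  have := congrArg (fun f : Module.End B (lattice σ B) =>
    ((f ⟨_, single_mem_lattice σ B i⟩ : lattice σ B) : Fin m → K)) h
  rw [Units.val_one, Matrix.one_mulVec]
  exact this

instance [Finite D] : Module.Finite B (lattice σ B) :=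
  Module.Finite.span_of_finite _ (Set.finite_range _)

instance [Finite D] : Module.Free B (lattice σ B) := by
  have : Module.Flat B (lattice σ B) := by
    rw [Module.Flat.flat_iff_torsion_eq_bot_of_isBezout, ← Submodule.isTorsionFree_iff_torsion_eq_bot]
    infer_instance
  exact Module.free_of_flat_of_isLocalRing

theorem exists_basis_lattice [Finite D] : Nonempty (Module.Basis (Fin m) B (lattice σ B)) := by
  let b := Module.Free.chooseBasis B (lattice σ B)
  let f : Module.Free.ChooseBasisIndex B (lattice σ B) → (Fin m → K) := fun i => (b i : Fin m → K)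
  have hli : LinearIndependent B f :=
    b.linearIndependent.map' (lattice σ B).subtype (Submodule.ker_subtype _)
  have hliK : LinearIndependent K f := (LinearIndependent.iff_fractionRing B K).1 hli
  have hspan : ⊤ ≤ Submodule.span K (Set.range f) := by
    have h1 : ∀ v ∈ lattice σ B, v ∈ Submodule.span K (Set.range f) := by
      intro v hv
      have h2 := b.mem_span ⟨v, hv⟩
      have h3 : v ∈ Submodule.map (lattice σ B).subtype (Submodule.span B (Set.range b)) :=
        ⟨⟨v, hv⟩, h2, rfl⟩
      rw [Submodule.map_span, ← Set.range_comp] at h3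
      exact Submodule.span_subset_span B K _ h3
    rw [← (Pi.basisFun K (Fin m)).span_eq, Submodule.span_le]
    rintro _ ⟨i, rfl⟩
    exact h1 _ (by simpa using single_mem_lattice σ B i)
  let bK := Module.Basis.mk hliK hspan
  have e := bK.indexEquiv (Pi.basisFun K (Fin m))
  exact ⟨b.reindex e⟩

end Lattice

theorem exists_reduction_univ {D : Type v} [Group D] [Finite D] {K : Type u} [Field K] [CharZero K]
    (p : ℕ) [Fact p.Prime] {m : ℕ} (σ : D →* GL (Fin m) K) :
    ∃ (k : Type u) (_ : Field k) (_ : CharP k p) (τ : D →* GL (Fin m) k),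
      ∀ g : D, ¬ p ∣ orderOf g → τ g = 1 → σ g = 1 := by
  obtain ⟨B, hB⟩ := exists_valuationSubring K p
  have hp : (p : B) ∈ maximalIdeal B := by
    rw [IsLocalRing.mem_maximalIdeal, mem_nonunits_iff]
    have := (ValuationSubring.coe_mem_nonunits_iff (A := B) (a := (p : B))).1 (by simpa using hB)
    exact this
  have : CharP (ResidueField B) p := by
    refine (CharP.charP_iff_prime_eq_zero (Fact.out : p.Prime)).2 ?_
    have := (residue_eq_zero_iff (R := B) (p : B)).2 hp
    simpa using this
  obtain ⟨b⟩ := exists_basis_lattice σ B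
  let toM : Module.End B (lattice σ B) →* Matrix (Fin m) (Fin m) B :=
    (LinearMap.toMatrixAlgEquiv b : _ ≃ₐ[B] _).toMulEquiv.toMonoidHom
  let f : D →* Matrix (Fin m) (Fin m) B := toM.comp (latticeRep σ B)
  let F : D →* Matrix (Fin m) (Fin m) (ResidueField B) :=
    ((residue B).mapMatrix : _ →+* Matrix (Fin m) (Fin m) (ResidueField B)).toMonoidHom.comp f
  refine ⟨ResidueField B, inferInstance, inferInstance, F.toHomUnits, ?_⟩
  intro g hg h1
  have h2 : F g = 1 := by
    have := congrArg Units.val h1
    simpa using this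
  have h3 : f g = 1 := by
    refine eq_one_of_map_residue_eq_one p (f g) (orderOf g) hg ?_ h2
    rw [← map_pow, pow_orderOf_eq_one, map_one]
  have h4 : latticeRep σ B g = 1 := by
    apply (LinearMap.toMatrixAlgEquiv b).injective
    rw [map_one]
    exact h3
  exact eq_one_of_latticeRep_eq_one σ B g h4

theorem exists_reduction {D : Type*} [Group D] [Finite D] {K : Type} [Field K] [CharZero K]
    (p : ℕ) [Fact p.Prime] {m : ℕ} (σ : D →* GL (Fin m) K) :
    ∃ (k : Type) (_ : Field k) (_ : CharP k p) (τ : D →* GL (Fin m) k),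
      ∀ g : D, ¬ p ∣ orderOf g → τ g = 1 → σ g = 1 :=
  exists_reduction_univ p σ

end Cfsg.Agent.LieRecognition.FT61.Red
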